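import Mathlib

/-!
# Central extensions of elementary abelian 2-groups are determined by their squaring maps
-/

set_option autoImplicit false
set_option linter.unusedSectionVars false
set_option linter.unusedSimpArgs false

namespace Cfsg.Agent.TypeA

variable {P V W : Type*} [Group P] [AddCommGroup V] [Finite V] [AddCommGroup W]

/-- A section whose factor set is a given bilinear form with the right diagonal. -/
theorem exists_section (hV : ∀ v : V, v + v = 0) (π : P → V) (hπ : ∀ x y, π (x * y) = π x + π y)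
    (hsurj : Function.Surjective π) (ι : W → P) (hι : ∀ a b, ι (a + b) = ι a * ι b)
    (hW : ∀ a : W, a + a = 0) (hcen : ∀ a x, x * ι a = ι a * x) (hπι : ∀ a, π (ι a) = 0)
    (β : V →+ V →+ W) (hQ : ∀ x, x * x = ι (β (π x) (π x))) :
    ∃ t : V → P, (∀ v, π (t v) = v) ∧ ∀ v w, t v * t w = t (v + w) * ι (β v w) := by
  have hι0 : ι 0 = 1 := by
    have := hι 0 0
    rw [add_zero] at this
    exact mul_eq_left.mp this.symm
  have hinv : ∀ a, (ι a)⁻¹ = ι a := fun a => inv_eq_of_mul_eq_one_left (by rw [← hι, hW, hι0])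
  have hπ1 : π 1 = 0 := by
    have := hπ 1 1
    rw [mul_one] at this
    exact (left_eq_add.mp this)
  have hpolar : ∀ x y, y * x = x * y * ι (β (π x) (π y) + β (π y) (π x)) := by
    intro x y
    have hxi : x⁻¹ = x * ι (β (π x) (π x)) := inv_eq_of_mul_eq_one_right (by
      rw [← mul_assoc, hQ, ← hι, hW, hι0])
    have hyi : y⁻¹ = y * ι (β (π y) (π y)) := inv_eq_of_mul_eq_one_right (by
      rw [← mul_assoc, hQ, ← hι, hW, hι0])
    have h2 := hQ (x * y)
    have h3 : y * x = x⁻¹ * ι (β (π (x * y)) (π (x * y))) * y⁻¹ := by rw [← h2]; group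
    rw [h3, hxi, hyi, mul_assoc x (ι _) (ι _), ← hι, mul_assoc x, ← mul_assoc (ι _) y (ι _),
      ← hcen _ y, mul_assoc y, ← hι, ← mul_assoc]
    congr 2
    simp only [hπ, map_add, AddMonoidHom.add_apply]
    abel_nf
    try simp only [two_nsmul, two_zsmul, hW, add_zero, zero_add]
    try abel
  let Good : AddSubgroup V → Prop := fun U =>
    ∃ t : V → P, (∀ v ∈ U, π (t v) = v) ∧ ∀ v ∈ U, ∀ w ∈ U, t v * t w = t (v + w) * ι (β v w)
  have hbot : Good ⊥ := ⟨fun _ => 1, fun v hv => by rw [AddSubgroup.mem_bot.mp hv, hπ1],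
    fun v hv w hw => by
      simp [AddSubgroup.mem_bot.mp hv, AddSubgroup.mem_bot.mp hw, hι0]⟩
  obtain ⟨U, ⟨t, ht1, ht2⟩, hmax⟩ :=
    Set.Finite.exists_maximal (Set.toFinite {U : AddSubgroup V | Good U}) ⟨⊥, hbot⟩
  suffices hU : ∀ v, v ∈ U from ⟨t, fun v => ht1 v (hU v), fun v w => ht2 v (hU v) w (hU w)⟩
  intro u
  by_contra hu
  obtain ⟨tu, rfl⟩ := hsurj u
  set u := π tu with hudef
  let U' : AddSubgroup V :=
    { carrier := {z | z ∈ U ∨ z + u ∈ U}
      zero_mem' := Or.inl (zero_mem U)
      add_mem' := fun {a b} ha hb => by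
        rcases ha with ha | ha <;> rcases hb with hb | hb
        · exact Or.inl (add_mem ha hb)
        · exact Or.inr (by rw [add_assoc]; exact add_mem ha hb)
        · exact Or.inr (by rw [add_right_comm]; exact add_mem ha hb)
        · exact Or.inl (by
            have := add_mem ha hb
            rwa [add_add_add_comm, hV u, add_zero] at this)
      neg_mem' := fun {a} ha => by rwa [show -a = a from neg_eq_of_add_eq_zero_left (hV a)] }
  have hgood : Good U' := by
    classical
    let t' : V → P := fun z => if z ∈ U then t z else t (z + u) * tu * ι (β (z + u) u)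
    have e1 : ∀ z, z ∈ U → t' z = t z := fun z hz => if_pos hz
    have e2 : ∀ z, z ∈ U → t' (z + u) = t z * tu * ι (β z u) := fun z hz => by
      have hn : z + u ∉ U := fun h => hu ((add_mem_cancel_left hz).mp h)
      show (if z + u ∈ U then _ else _) = _
      rw [if_neg hn, add_assoc, hV u, add_zero]
    have hsplit : ∀ z ∈ U', z ∈ U ∨ ∃ y ∈ U, z = y + u := by
      rintro z (hz | hz)
      · exact Or.inl hz
      · exact Or.inr ⟨z + u, hz, by rw [add_assoc, hV u, add_zero]⟩
    have hswap : ∀ y ∈ U, tu * t y = t y * tu * ι (β y u + β u y) := fun y hy => by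
      rw [hpolar (t y) tu, ht1 y hy, ← hudef]
    have hc : ∀ (a : W) (x y : P), x * ι a * y = x * y * ι a := fun a x y => by
      rw [mul_assoc, ← hcen a y, mul_assoc]
    refine ⟨t', fun z hz => ?_, fun v hv w hw => ?_⟩
    · rcases hsplit z hz with h | ⟨y, hy, rfl⟩
      · rw [e1 z h, ht1 z h]
      · rw [e2 y hy, hπ, hπ, hπι, add_zero, ht1 y hy, ← hudef]
    rcases hsplit v hv with hv | ⟨x, hx, rfl⟩ <;> rcases hsplit w hw with hw | ⟨y, hy, rfl⟩
    · rw [e1 v hv, e1 w hw, e1 _ (add_mem hv hw), ht2 v hv w hw]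
    · rw [e1 v hv, e2 y hy, ← add_assoc, e2 _ (add_mem hv hy), ← mul_assoc, ← mul_assoc, ht2 v hv y hy,
        hc, mul_assoc, ← hι, mul_assoc _ (ι _) (ι _), ← hι]
      congr 2
      simp only [map_add, AddMonoidHom.add_apply]
      abel_nf
      try simp only [two_nsmul, two_zsmul, hW, add_zero, zero_add]
      try abel
    · rw [e2 x hx, e1 w hw, add_right_comm, e2 _ (add_mem hx hw), hc, mul_assoc (t x), hswap w hw,
        ← mul_assoc, ← mul_assoc, ht2 x hx w hw, hc (β x w) _ tu]
      simp only [mul_assoc, ← hι]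
      congr 2
      simp only [map_add, AddMonoidHom.add_apply]
      abel_nf
      try simp only [two_nsmul, two_zsmul, hW, add_zero, zero_add]
      try abel
    · rw [e2 x hx, e2 y hy, show x + u + (y + u) = x + y by rw [add_add_add_comm, hV u, add_zero],
        e1 _ (add_mem hx hy), ← mul_assoc, ← mul_assoc, hc, mul_assoc (t x) tu (t y), hswap y hy,
        ← mul_assoc, ← mul_assoc, mul_assoc _ (ι _) (ι _), ← hι, hc _ _ tu, mul_assoc (t x * t y) tu tu, hQ,
        ← hudef, ht2 x hx y hy]
      simp only [mul_assoc, ← hι]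
      congr 2
      simp only [map_add, AddMonoidHom.add_apply]
      abel_nf
      try simp only [two_nsmul, two_zsmul, hW, add_zero, zero_add]
      try abel
  exact hu ((hmax hgood (fun z hz => Or.inl hz) : U' ≤ U) (Or.inr (by rw [hV u]; exact zero_mem U)))

end Cfsg.Agent.TypeA
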