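import Mathlib

/-!
# Monomials that are additive or quadratic maps in characteristic two
-/

set_option autoImplicit false
set_option linter.unusedSectionVars false

open Polynomial

namespace Cfsg.Agent.TypeA

variable {F : Type*} [Field F] [Fintype F] [CharP F 2]

theorem eq_zero_of_vanish {r : F[X]} (hr : r.natDegree < Fintype.card F) (h : ∀ x, r.eval x = 0) : r = 0 :=
  eq_zero_of_natDegree_lt_card_of_eval_eq_zero r Function.injective_id (fun i => h i) hr

theorem natCast_odd {e : ℕ} (h : Odd e) : (e : F) = 1 := by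
  obtain ⟨k, rfl⟩ := h
  rw [Nat.cast_add, Nat.cast_mul, Nat.cast_two, CharTwo.two_eq_zero, zero_mul, zero_add, Nat.cast_one]

theorem sq_inj {a b : F} (h : a ^ 2 = b ^ 2) : a = b := frobenius_inj F 2 h

/-- An additive monomial of degree below the field order is a Frobenius power. -/
theorem exists_two_pow_of_additive {e : ℕ} (he0 : 0 < e) (he : e < Fintype.card F)
    (hadd : ∀ x y : F, (x + y) ^ e = x ^ e + y ^ e) : ∃ t, e = 2 ^ t := by
  induction e using Nat.strong_induction_on with
  | _ e ih =>
  rcases Nat.even_or_odd e with ⟨m, rfl⟩ | hodd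
  · obtain ⟨t, ht⟩ := ih m (by omega) (by omega) (by omega) fun x y => sq_inj (by
      rw [← pow_mul, mul_two, CharTwo.add_sq, ← pow_mul, ← pow_mul, mul_two]; exact hadd x y)
    exact ⟨t + 1, by rw [ht, pow_succ, mul_two]⟩
  refine ⟨0, ?_⟩
  by_contra hne
  set r : F[X] := (X + 1) ^ e + X ^ e + 1 with hr
  have hdeg : r.natDegree ≤ e := by
    rw [natDegree_le_iff_coeff_eq_zero]
    intro N hN
    rw [hr, coeff_add, coeff_add, coeff_X_add_one_pow, coeff_X_pow, coeff_one,
      Nat.choose_eq_zero_of_lt hN, if_neg (by omega), if_neg (by omega)]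
    simp
  have hz : r = 0 := eq_zero_of_vanish (by omega) fun x => by
    simp only [hr, eval_add, eval_pow, eval_X, eval_one]
    rw [hadd, one_pow, add_assoc (x ^ e) 1, add_comm 1 (x ^ e), add_assoc, add_assoc, CharTwo.add_self_eq_zero,
      add_zero, CharTwo.add_self_eq_zero]
  have hc := congrArg (fun p => p.coeff 1) hz
  simp only [hr, coeff_add, coeff_X_add_one_pow, coeff_X_pow, coeff_one, coeff_zero, Nat.choose_one_right] at hc
  rw [if_neg (by simpa using fun h => hne (by omega)), if_neg (by omega), add_zero, add_zero,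
    natCast_odd hodd] at hc
  exact one_ne_zero hc

/-- A quadratic monomial of degree below the field order. -/
theorem exists_of_quadratic {e : ℕ} (he0 : 0 < e) (he : e < Fintype.card F)
    (hq : ∀ x y w : F, (x + y + w) ^ e + (x + y) ^ e + (x + w) ^ e + (y + w) ^ e + x ^ e + y ^ e + w ^ e = 0) :
    (∃ t, e = 2 ^ t) ∨ ∃ i d, 0 < d ∧ e = 2 ^ i * (2 ^ d + 1) := by
  induction e using Nat.strong_induction_on with
  | _ e ih =>
  rcases Nat.even_or_odd e with ⟨m, rfl⟩ | hodd
  · rcases ih m (by omega) (by omega) (by omega) (fun x y w => by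
      have h := hq x y w
      simp only [← mul_two, pow_mul] at h
      rw [← CharTwo.add_sq, ← CharTwo.add_sq, ← CharTwo.add_sq, ← CharTwo.add_sq, ← CharTwo.add_sq,
        ← CharTwo.add_sq] at h
      exact eq_zero_of_pow_eq_zero h) with ⟨t, ht⟩ | ⟨i, d, hd, ht⟩
    · exact Or.inl ⟨t + 1, by rw [ht, pow_succ, mul_two]⟩
    · exact Or.inr ⟨i + 1, d, hd, by rw [ht, pow_succ]; ring⟩
  by_cases he1 : e = 1
  · exact Or.inl ⟨0, he1⟩
  set m := e - 1 with hm
  have hm0 : 0 < m := by omega
  set h : F[X] := (X + 1) ^ e + X ^ e + 1 with hh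
  have hcoeff : ∀ N, 0 < N → h.coeff N = (e.choose N : F) + if N = e then 1 else 0 := fun N hN => by
    rw [hh, coeff_add, coeff_add, coeff_X_add_one_pow, coeff_X_pow, coeff_one, if_neg (show N ≠ 0 by omega),
      add_zero]
  have hdeg : h.natDegree ≤ m := by
    rw [natDegree_le_iff_coeff_eq_zero]
    intro N hN
    rw [hcoeff N (by omega)]
    rcases eq_or_lt_of_le (show e ≤ N by omega) with rfl | hlt
    · rw [Nat.choose_self, Nat.cast_one, if_pos rfl, CharTwo.add_self_eq_zero]
    · rw [Nat.choose_eq_zero_of_lt hlt, if_neg (by omega), Nat.cast_zero, add_zero]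
  have hlead : h.coeff m = 1 := by
    rw [hcoeff m hm0, if_neg (by omega), add_zero, hm, ← Nat.choose_symm (by omega),
      show e - (e - 1) = 1 by omega, Nat.choose_one_right]
    exact natCast_odd hodd
  have hadd : ∀ x y : F, h.eval (x + y) = h.eval x + h.eval y := fun x y => by
    have h' := hq x y 1
    simp only [hh, eval_add, eval_pow, eval_X, eval_one, one_pow] at h' ⊢
    linear_combination (norm := skip) h'
    ring_nf
    simp [CharTwo.two_eq_zero]
  have hH : ∀ j, 0 < j → j < m → hasseDeriv j h = C (h.coeff j) := by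
    intro j hj hjm
    refine sub_eq_zero.mp (eq_zero_of_vanish ?_ fun y => ?_)
    · refine lt_of_le_of_lt ((natDegree_sub_le _ _).trans (max_le ?_ (by rw [natDegree_C]; exact Nat.zero_le _)))
        (show m < Fintype.card F by omega)
      exact (natDegree_hasseDeriv_le h j).trans (by omega)
    · have hz : taylor y h - h - C (h.eval y) = 0 := by
        refine eq_zero_of_vanish ?_ fun x => ?_
        · refine lt_of_le_of_lt ((natDegree_sub_le _ _).trans (max_le ((natDegree_sub_le _ _).trans
            (max_le ?_ hdeg)) (by rw [natDegree_C]; exact Nat.zero_le _))) (show m < Fintype.card F by omega)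
          rw [natDegree_taylor]; exact hdeg
        · rw [eval_sub, eval_sub, taylor_eval, eval_C, hadd]; ring
      have hc := congrArg (fun p => p.coeff j) hz
      simp only [coeff_sub, taylor_coeff, coeff_zero, coeff_C, show j ≠ 0 by omega, if_false, sub_zero] at hc
      rw [eval_sub, eval_C]
      exact hc
  have hchoose : ∀ j, 0 < j → j < m → (m.choose j : F) = 0 := by
    intro j hj hjm
    have hc := congrArg (fun p => p.coeff (m - j)) (hH j hj hjm)
    simp only [hasseDeriv_coeff, coeff_C, show m - j ≠ 0 by omega, if_false,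
      Nat.sub_add_cancel hjm.le, hlead, mul_one] at hc
    exact hc
  obtain ⟨t, ht⟩ := exists_two_pow_of_additive hm0 (show m < Fintype.card F by omega) fun x y => by
    rw [add_pow, Finset.sum_range_succ, Finset.sum_eq_single_of_mem 0 (Finset.mem_range.mpr hm0)]
    · simp [add_comm]
    · intro j hj hj0
      rw [hchoose j (Nat.pos_of_ne_zero hj0) (Finset.mem_range.mp hj), mul_zero]
  refine Or.inr ⟨0, t, Nat.pos_of_ne_zero fun h0 => ?_, by rw [pow_zero, one_mul]; omega⟩
  obtain ⟨k, hk⟩ := hodd
  rw [h0, pow_zero] at ht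
  omega

end Cfsg.Agent.TypeA
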