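import Cfsg.Agent.RankOne.SuzukiCenter
import Cfsg.Agent.TypeA.Monomial
import Cfsg.Agent.TypeA.Extension
import Cfsg.Prelude.Def_LieRecognition

/-!
# Suzuki 2-groups of order |Z|² are of type A
-/

set_option autoImplicit false
set_option linter.unusedSectionVars false

open Subgroup
open scoped commutatorElement

namespace Cfsg.Agent.TypeA

universe u

/-- An elementary abelian 2-group with an automorphism transitive on the non-zero elements is a field. -/
theorem field_model {M : Type*} [AddCommGroup M] [Finite M] (k : M ≃+ M) (v0 : M) (hv0 : v0 ≠ 0)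
    (hall : ∀ v : M, v ≠ 0 → ∃ i : ℕ, (⇑k)^[i] v0 = v) (h2 : ∀ v : M, v + v = 0) {F : Type} [Field F]
    [Fintype F] (hn : Nat.card M = Fintype.card F) :
    ∃ (L : M ≃+ F) (ω : F), L v0 = 1 ∧ ω ≠ 0 ∧ ∀ v, L (k v) = ω * L v := by
  classical
  let kE : AddMonoid.End M := k.toAddMonoidHom
  let R : Subring (AddMonoid.End M) := Subring.closure {kE}
  letI : CommRing R := Subring.closureCommRingOfComm (by
    intro a ha b hb
    rw [Set.mem_singleton_iff.mp ha, Set.mem_singleton_iff.mp hb])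
  let κ : R := ⟨kE, Subring.subset_closure rfl⟩
  have hcomm : ∀ r : R, ∀ v, (r : AddMonoid.End M) (k v) = k ((r : AddMonoid.End M) v) := fun r v =>
    congrArg (fun s : R => (s : AddMonoid.End M) v) (mul_comm r κ)
  have hiter : ∀ r : R, ∀ i : ℕ, (r : AddMonoid.End M) ((⇑k)^[i] v0) = (⇑k)^[i] ((r : AddMonoid.End M) v0) := by
    intro r i
    induction i with
    | zero => rfl
    | succ i ih => rw [Function.iterate_succ_apply', Function.iterate_succ_apply', hcomm, ih]
  let ev : R →+ M :=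
    { toFun := fun r => (r : AddMonoid.End M) v0
      map_zero' := rfl
      map_add' := fun a b => rfl }
  have hit0 : ∀ i : ℕ, (⇑k)^[i] 0 = 0 := fun i => Function.iterate_fixed (map_zero k) i
  have hinj : Function.Injective ev := (injective_iff_map_eq_zero ev).mpr fun r hr => by
    apply Subtype.ext
    refine DFunLike.ext (r : AddMonoid.End M) ((0 : R) : AddMonoid.End M) fun v => ?_
    show (r : AddMonoid.End M) v = 0
    by_cases hv : v = 0
    · rw [hv, map_zero]
    obtain ⟨i, rfl⟩ := hall v hv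
    rw [hiter]
    show (⇑k)^[i] (ev r) = 0
    rw [hr, hit0]
  have hsurj : Function.Surjective ev := fun v => by
    by_cases hv : v = 0
    · exact ⟨0, by rw [map_zero, hv]⟩
    obtain ⟨i, rfl⟩ := hall v hv
    refine ⟨κ ^ i, ?_⟩
    clear hv
    induction i with
    | zero => rfl
    | succ i ih =>
      rw [Function.iterate_succ_apply', ← ih, pow_succ']
      rfl
  have : Nontrivial R := ⟨⟨1, 0, fun h => hv0 (congrArg ev h)⟩⟩
  have : NoZeroDivisors R := ⟨fun {r s} h => by
    refine or_iff_not_imp_right.mpr fun hs => hinj (?_ : ev r = ev 0)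
    have hsv : ev s ≠ 0 := fun h' => hs (hinj (by rw [h', map_zero]))
    obtain ⟨i, hi⟩ := hall _ hsv
    have h1 : (r : AddMonoid.End M) (ev s) = 0 := congrArg (fun t : R => (t : AddMonoid.End M) v0) h
    rw [← hi, hiter] at h1
    exact (k.injective.iterate i) (h1.trans (hit0 i).symm) |>.trans (map_zero ev).symm⟩
  have : IsDomain R := NoZeroDivisors.to_isDomain R
  have : Finite R := Finite.of_injective ev hinj
  letI : Fintype R := Fintype.ofFinite R
  letI : Field R := Fintype.fieldOfDomain R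
  have hcard : Nat.card R = Fintype.card F :=
    (Nat.card_congr (Equiv.ofBijective ev ⟨hinj, hsurj⟩)).trans hn
  let ψ : R ≃+* F := FiniteField.ringEquivOfCardEq (by rw [← Nat.card_eq_fintype_card, hcard])
  let E : R ≃+ M := AddEquiv.ofBijective ev ⟨hinj, hsurj⟩
  have hE1 : E 1 = v0 := rfl
  have hκ : ∀ v, E.symm (k v) = κ * E.symm v := fun v => E.injective (by
    rw [E.apply_symm_apply]
    show k v = k (E (E.symm v))
    rw [E.apply_symm_apply])
  refine ⟨E.symm.trans ψ.toAddEquiv, ψ κ, ?_, ?_, fun v => ?_⟩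
  · show ψ (E.symm v0) = 1
    rw [← hE1, E.symm_apply_apply, map_one]
  · rw [ne_eq, map_eq_zero_iff ψ ψ.injective]
    intro h
    exact hv0 (k.injective ((show k (E 1) = E (κ * 1) from rfl).trans (by rw [h, zero_mul, map_zero, map_zero])))
  · show ψ (E.symm (k v)) = ψ κ * ψ (E.symm v)
    rw [hκ, map_mul]

/-- The matrix of type A. -/
def mat {F : Type*} [Field F] (φ : F →+* F) (x y : F) : Matrix (Fin 3) (Fin 3) F :=
  !![1, 0, 0; x, 1, 0; y, φ x, 1]

theorem mat_mul {F : Type*} [Field F] (φ : F →+* F) (x y x' y' : F) :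
    mat φ x y * mat φ x' y' = mat φ (x + x') (y + y' + φ x * x') := by
  ext i j
  fin_cases i <;> fin_cases j <;> simp [mat, Matrix.mul_apply, Fin.sum_univ_three, map_add]
  ring

/-- Higman's theorem on type A. -/
theorem isTypeA {P : Type u} [Group P] (hP : Cfsg.IsSuzukiTwoGroup P)
    (hcard : Nat.card P = Nat.card (Subgroup.center P) ^ 2) :
    ∃ (F : Type) (_ : Field F) (_ : Fintype F) (φ : F ≃+* F), Fintype.card F = Nat.card (Subgroup.center P) ∧
      φ ≠ RingEquiv.refl F ∧ Odd (orderOf φ) ∧ Nonempty (P ≃* Cfsg.suzukiTypeA F (φ : F →+* F)) := by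
  classical
  obtain ⟨hinv, hexp⟩ := Cfsg.Agent.RankOne.isSuzuki_center hP
  obtain ⟨hfin, h2, ⟨xc, yc, hnc⟩, ⟨x₀, y₀, -, hx₀, hx₀2, -, -⟩, K, hK, hreg⟩ := hP
  have : Fact (Nat.Prime 2) := ⟨Nat.prime_two⟩
  set Z := center P with hZdef
  have hcomm : ∀ {ζ : P}, ζ ∈ Z → ∀ x, x * ζ = ζ * x := fun hζ x => mem_center_iff.mp hζ x
  have hZtop : Z ≠ ⊤ := fun h => hnc (hcomm (h ▸ mem_top yc) xc)
  obtain ⟨k0, hk0⟩ := hK.exists_generator
  let k : MulAut P := k0
  have hkZ : ∀ z ∈ Z, k z ∈ Z := fun z hz => mem_center_iff.mpr fun w => by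
    rw [show w = k (k⁻¹ w) from (k.apply_symm_apply w).symm, ← map_mul, ← map_mul, hcomm hz]
  have hpow : ∀ x y : P, x ≠ 1 → x * x = 1 → y ≠ 1 → y * y = 1 → ∃ i : ℕ, (k ^ i) x = y := by
    intro x y hx hx2 hy hy2
    obtain ⟨g, hg, -⟩ := hreg x y hx hx2 hy hy2
    obtain ⟨i, rfl⟩ := (mem_powers_iff_mem_zpowers.mpr (hk0 g) : g ∈ Submonoid.powers k0)
    exact ⟨i, by simpa [k] using hg⟩
  have heqpow : ∀ z : P, z ≠ 1 → z * z = 1 → ∀ i j : ℕ, (k ^ i) z = (k ^ j) z → k ^ i = k ^ j := by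
    intro z hz hz2 i j h
    have hne : (k ^ j) z ≠ 1 := fun h' => hz ((k ^ j).injective (h'.trans (map_one _).symm))
    have h2' : (k ^ j) z * (k ^ j) z = 1 := by rw [← map_mul, hz2, map_one]
    have e := (hreg z _ hz hz2 hne h2').unique (y₁ := k0 ^ i) (y₂ := k0 ^ j) (by simpa [k] using h) (by simp [k])
    simpa [k] using congrArg (fun g : K => (g : MulAut P)) e
  -- an element whose square is a central involution
  obtain ⟨y1, hy1, hy1sq, -⟩ := Cfsg.Agent.RankOne.exists_invol_mod h2 Z hZtop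
  set z0 := y1 * y1 with hz0def
  have hz01 : z0 ≠ 1 := fun h => hy1 (hinv y1 h)
  have hz02 : z0 * z0 = 1 := hexp z0 hy1sq
  have hkiZ : ∀ (i : ℕ), ∀ z ∈ Z, (k ^ i) z ∈ Z := by
    intro i
    induction i with
    | zero => intro z hz; simpa using hz
    | succ i ih => intro z hz; rw [pow_succ']; exact hkZ _ (ih z hz)
  have hmap : Z.map k.toMonoidHom = Z := by
    refine Subgroup.eq_of_le_of_card_ge (fun z => ?_) (by rw [card_map_of_injective k.injective])
    rintro ⟨w, hw, rfl⟩
    exact hkZ w hw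
  -- the quotient
  have hq : Nat.card (P ⧸ Z) = Nat.card Z := by
    have h := Subgroup.card_eq_card_quotient_mul_card_subgroup Z
    rw [hcard, pow_two] at h
    exact (Nat.eq_of_mul_eq_mul_right Nat.card_pos h).symm
  let g : P → Z → P := fun _ z => z
  have hchoice : ∀ z : Z, ∃ i : ℕ, z ≠ 1 → (k ^ i) z0 = (z : P) := fun z => by
    by_cases hz : z = 1
    · exact ⟨0, fun h => absurd hz h⟩
    obtain ⟨i, hi⟩ := hpow z0 z hz01 hz02 (fun h => hz (Subtype.ext h)) (hexp z z.2)
    exact ⟨i, fun _ => hi⟩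
  choose idx hidx using hchoice
  let f : Z → P ⧸ Z := fun z => if z = 1 then 1 else QuotientGroup.mk ((k ^ idx z) y1)
  have hsqmk : ∀ a b : P, (QuotientGroup.mk a : P ⧸ Z) = QuotientGroup.mk b → a * a = b * b := by
    intro a b h
    have hm : a⁻¹ * b ∈ Z := QuotientGroup.eq.mp h
    have hb : b = a * (a⁻¹ * b) := by group
    rw [hb]
    calc a * a = a * a * ((a⁻¹ * b) * (a⁻¹ * b)) := by rw [hexp _ hm, mul_one]
      _ = a * (a * (a⁻¹ * b)) * (a⁻¹ * b) := by simp [mul_assoc]
      _ = a * ((a⁻¹ * b) * a) * (a⁻¹ * b) := by rw [hcomm hm a]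
      _ = _ := by simp [mul_assoc]
  have hk1y : ∀ i : ℕ, (k ^ i) y1 * (k ^ i) y1 = (k ^ i) z0 := fun i => by rw [← map_mul]
  have hfne : ∀ z : Z, z ≠ 1 → f z ≠ 1 := fun z hz h => hz (Subtype.ext (by
    simp only [f, if_neg hz] at h
    have := hsqmk _ 1 h
    rw [hk1y, hidx z hz, mul_one] at this
    exact this))
  have hfinj : Function.Injective f := by
    intro z w h
    by_cases hz : z = 1
    · subst hz
      by_contra hw
      exact hfne w (Ne.symm hw) (h.symm.trans (by simp [f]))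
    by_cases hw : w = 1
    · subst hw
      exact absurd (h.trans (by simp [f])) (hfne z hz)
    simp only [f, if_neg hz, if_neg hw] at h
    have := hsqmk _ _ h
    rw [hk1y, hk1y, hidx z hz, hidx w hw] at this
    exact Subtype.ext this
  have hfsurj : Function.Surjective f := (hfinj.bijective_of_nat_card_le hq.le).2
  have hcases : ∀ q : P ⧸ Z, q = 1 ∨ ∃ i : ℕ, QuotientGroup.mk ((k ^ i) y1) = q := fun q => by
    obtain ⟨z, rfl⟩ := hfsurj q
    by_cases hz : z = 1
    · exact Or.inl (by simp [f, hz])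
    · exact Or.inr ⟨idx z, by simp [f, hz]⟩
  have hsqZ : ∀ x : P, x * x ∈ Z := fun x => by
    rcases hcases (QuotientGroup.mk x) with h | ⟨i, hi⟩
    · rw [hsqmk x 1 (h.trans rfl), mul_one]; exact one_mem Z
    · rw [← hsqmk _ _ hi, hk1y]; exact hkiZ i _ hy1sq
  have hq2 : ∀ a : P ⧸ Z, a * a = 1 := fun a => by
    induction a using QuotientGroup.induction_on with
    | H x => exact (QuotientGroup.eq_one_iff _).mpr (hsqZ x)
  letI : CommGroup (P ⧸ Z) :=
    { (inferInstance : Group (P ⧸ Z)) with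
      mul_comm := fun a b => by
        have ha : a⁻¹ = a := inv_eq_of_mul_eq_one_left (hq2 a)
        have hb : b⁻¹ = b := inv_eq_of_mul_eq_one_left (hq2 b)
        calc a * b = (a * b)⁻¹ := (inv_eq_of_mul_eq_one_left (hq2 _)).symm
          _ = _ := by rw [mul_inv_rev, ha, hb] }
  obtain ⟨n, hn⟩ := IsPGroup.iff_card.mp (h2.to_subgroup Z)
  letI : CommGroup Z := { (inferInstance : Group Z) with mul_comm := fun a b => Subtype.ext (hcomm b.2 a) }
  have hiterq : ∀ (i : ℕ) (x : P), (⇑(MulEquiv.toAdditive (QuotientGroup.congr Z Z k hmap)))^[i]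
      (Additive.ofMul (QuotientGroup.mk x : P ⧸ Z)) = Additive.ofMul (QuotientGroup.mk ((k ^ i) x) : P ⧸ Z) := by
    intro i x
    induction i with
    | zero => simp
    | succ i ih => rw [Function.iterate_succ_apply', ih, pow_succ']; rfl
  let kh : ↥Z →* ↥Z := MonoidHom.mk' (fun z : ↥Z => (⟨k z, hkZ z z.2⟩ : ↥Z))
    fun a b => Subtype.ext (map_mul k (a : P) b)
  let kZ : ↥Z ≃* ↥Z := MulEquiv.ofBijective kh ⟨fun a b h => Subtype.ext (k.injective (congrArg Subtype.val h)),
    Finite.surjective_of_injective fun a b h => Subtype.ext (k.injective (congrArg Subtype.val h))⟩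
  have hiterZ : ∀ (i : ℕ) (z : Z), ((Additive.toMul ((⇑(MulEquiv.toAdditive kZ))^[i] (Additive.ofMul z)) : Z) : P) =
      (k ^ i) (z : P) := by
    intro i z
    induction i with
    | zero => simp
    | succ i ih => rw [Function.iterate_succ_apply', pow_succ', MulAut.mul_apply, ← ih]; rfl --
  have hn0 : n ≠ 0 := by
    rintro rfl
    rw [pow_zero, Nat.card_eq_one_iff_unique] at hn
    exact hz01 (congrArg Subtype.val (hn.1.elim (⟨z0, hy1sq⟩ : Z) 1))
  obtain ⟨F, iF, iFt, hchar, hqF⟩ : ∃ (F : Type) (_ : Field F) (_ : Fintype F), CharP F 2 ∧ Fintype.card F = 2 ^ n :=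
    letI := Fintype.ofFinite (GaloisField 2 n)
    ⟨GaloisField 2 n, inferInstance, inferInstance, inferInstance, by
      rw [← Nat.card_eq_fintype_card, GaloisField.card 2 n hn0]⟩
  let v0 : Additive (P ⧸ Z) := Additive.ofMul (QuotientGroup.mk y1)
  let w0 : Additive Z := Additive.ofMul ⟨z0, hy1sq⟩
  obtain ⟨L, ω, hL0, hω0, hLk⟩ := field_model (MulEquiv.toAdditive (QuotientGroup.congr Z Z k hmap)) v0
    (fun h => hy1 ((QuotientGroup.eq_one_iff _).mp (congrArg Additive.toMul h)))
    (fun v hv => by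
      rcases hcases (Additive.toMul v) with h | ⟨i, hi⟩
      · exact absurd (congrArg Additive.ofMul h) hv
      · exact ⟨i, (hiterq i y1).trans (congrArg Additive.ofMul hi)⟩)
    (fun v => congrArg Additive.ofMul (hq2 (Additive.toMul v))) (F := F)
    ((Nat.card_congr Additive.toMul).trans (hq.trans (hn.trans hqF.symm)))
  obtain ⟨L', ω', hL'0, hω'0, hL'k⟩ := field_model (MulEquiv.toAdditive kZ) w0
    (fun h => hz01 (congrArg (fun w : Additive Z => ((Additive.toMul w : Z) : P)) h))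
    (fun v hv => by
      obtain ⟨i, hi⟩ := hpow z0 (Additive.toMul v : Z) hz01 hz02
        (fun h => hv (congrArg Additive.ofMul (Subtype.ext h : (Additive.toMul v : Z) = 1))) (hexp _ (Additive.toMul v).2)
      exact ⟨i, Additive.toMul.injective (Subtype.ext ((hiterZ i ⟨z0, hy1sq⟩).trans hi))⟩)
    (fun v => congrArg Additive.ofMul (Subtype.ext (hexp _ (Additive.toMul v).2) : (Additive.toMul v : Z) * Additive.toMul v = 1))
    (F := F) ((Nat.card_congr Additive.toMul).trans (hn.trans hqF.symm))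
  let π : P → F := fun x => L (Additive.ofMul (QuotientGroup.mk x))
  let ι : F → P := fun a => ((Additive.toMul (L'.symm a) : Z) : P)
  have hπ : ∀ x y, π (x * y) = π x + π y := fun x y => by simp only [π]; rw [← map_add]; rfl
  have hπ_eq : ∀ x y, π x = π y → (QuotientGroup.mk x : P ⧸ Z) = QuotientGroup.mk y := fun x y h =>
    Additive.ofMul.injective (L.injective h)
  have hπ1 : π 1 = 0 := map_zero L
  have hι : ∀ a b, ι (a + b) = ι a * ι b := fun a b => by simp only [ι, map_add]; rfl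
  have hιinj : Function.Injective ι := fun a b h =>
    L'.symm.injective (Additive.toMul.injective (Subtype.ext h))
  have hι0 : ι 0 = 1 := by simp only [ι, map_zero]; rfl
  have hπk : ∀ i, π ((k ^ i) y1) = ω ^ i := by
    intro i
    induction i with
    | zero => simpa [π] using hL0
    | succ i ih =>
      rw [pow_succ' ω, ← ih, pow_succ']
      show L ((MulEquiv.toAdditive (QuotientGroup.congr Z Z k hmap)) (Additive.ofMul (QuotientGroup.mk ((k ^ i) y1) : P ⧸ Z))) = _
      exact hLk _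
  have hιk : ∀ i, ι (ω' ^ i) = (k ^ i) z0 := by
    intro i
    have h : L' ((⇑(MulEquiv.toAdditive kZ))^[i] w0) = ω' ^ i := by
      induction i with
      | zero => simpa using hL'0
      | succ i ih => rw [Function.iterate_succ_apply', hL'k, ih, pow_succ']
    show ((Additive.toMul (L'.symm _) : Z) : P) = _
    rw [← h, AddEquiv.symm_apply_apply]
    exact hiterZ i ⟨z0, hy1sq⟩
  have hclass : ∀ x : P, π x = 0 ∧ x * x = 1 ∨ ∃ i : ℕ, π x = ω ^ i ∧ x * x = ι (ω' ^ i) := fun x => by
    rcases hcases (QuotientGroup.mk x) with h | ⟨i, hi⟩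
    · refine Or.inl ⟨?_, by rw [hsqmk x 1 (h.trans rfl), mul_one]⟩
      show L (Additive.ofMul (QuotientGroup.mk x : P ⧸ Z)) = 0
      rw [h]; exact map_zero L
    · refine Or.inr ⟨i, ?_, by rw [← hsqmk _ _ hi, hk1y, hιk]⟩
      rw [← hπk i]
      show L (Additive.ofMul (QuotientGroup.mk x : P ⧸ Z)) = L (Additive.ofMul (QuotientGroup.mk ((k ^ i) y1) : P ⧸ Z))
      rw [hi]
  have hπsurj : Function.Surjective π := fun a => by
    obtain ⟨x, hx⟩ := QuotientGroup.mk_surjective (Additive.toMul (L.symm a))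
    exact ⟨x, by show L _ = a; rw [hx]; exact L.apply_symm_apply a⟩
  -- every non-zero element is a power of ω
  have hωgen : ∀ a : F, a ≠ 0 → ∃ i : ℕ, ω ^ i = a := fun a ha => by
    obtain ⟨x, rfl⟩ := hπsurj a
    rcases hclass x with ⟨h, -⟩ | ⟨i, h, -⟩
    · exact absurd h ha
    · exact ⟨i, h.symm⟩
  obtain ⟨i0, hi0⟩ := hωgen ω' hω'0
  have hωq : ω ^ (Fintype.card F - 1) = 1 := FiniteField.pow_card_sub_one_eq_one ω hω0
  have hF2 : 2 ≤ Fintype.card F := Fintype.one_lt_card
  obtain ⟨e, he0, heq, heω⟩ : ∃ e, 0 < e ∧ e < Fintype.card F ∧ ω ^ e = ω' := by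
    have hmod : ω ^ (i0 % (Fintype.card F - 1)) = ω' := by
      rw [← hi0]
      conv_rhs => rw [← Nat.mod_add_div i0 (Fintype.card F - 1), pow_add, pow_mul, hωq, one_pow, mul_one]
    by_cases h : i0 % (Fintype.card F - 1) = 0
    · exact ⟨Fintype.card F - 1, by omega, by omega, by rw [hωq, ← hmod, h, pow_zero]⟩
    · exact ⟨_, Nat.pos_of_ne_zero h, by have := Nat.mod_lt i0 (show Fintype.card F - 1 > 0 by omega); omega, hmod⟩
  have hM : ∀ x, x * x = ι ((π x) ^ e) := fun x => by
    rcases hclass x with ⟨h, h'⟩ | ⟨i, h, h'⟩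
    · rw [h, h', zero_pow (by omega), hι0]
    · rw [h, h', ← pow_mul, mul_comm, pow_mul, heω]
  have hcen : ∀ (a : F) (x : P), x * ι a = ι a * x := fun a x => hcomm (Additive.toMul (L'.symm a) : Z).2 x
  have hιι : ∀ a, ι a * ι a = 1 := fun a => by rw [← hι, CharTwo.add_self_eq_zero, hι0]
  -- the polar form
  let c : F → F → F := fun a b => (a + b) ^ e + a ^ e + b ^ e
  have hyx : ∀ x y, y * x = x * y * ι (c (π x) (π y)) := by
    intro x y
    have hxi : x⁻¹ = x * ι (π x ^ e) := inv_eq_of_mul_eq_one_right (by rw [← mul_assoc, hM, hιι])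
    have hyi : y⁻¹ = y * ι (π y ^ e) := inv_eq_of_mul_eq_one_right (by rw [← mul_assoc, hM, hιι])
    have h3 : y * x = x⁻¹ * ι (π (x * y) ^ e) * y⁻¹ := by rw [← hM]; group
    rw [h3, hxi, hyi, mul_assoc x (ι _) (ι _), ← hι, mul_assoc x, ← mul_assoc (ι _) y (ι _),
      ← hcen _ y, mul_assoc y, ← hι, ← mul_assoc, hπ]
    congr 2
    simp only [c]
    ring
  have hbil : ∀ a b w : F, c (a + b) w = c a w + c b w := by
    intro a b w
    obtain ⟨x, rfl⟩ := hπsurj a
    obtain ⟨x', rfl⟩ := hπsurj b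
    obtain ⟨y, rfl⟩ := hπsurj w
    apply hιinj
    have h1 := hyx (x * x') y
    rw [hπ] at h1
    rw [← mul_assoc, hyx x y, mul_assoc (x * y), ← hcen _ x', ← mul_assoc, mul_assoc x y x', hyx x' y] at h1
    simp only [mul_assoc, ← hι] at h1
    rw [mul_right_inj, mul_right_inj, mul_right_inj] at h1
    rw [← h1, add_comm (c (π x') (π y))]
  have hquad : ∀ x y w : F, (x + y + w) ^ e + (x + y) ^ e + (x + w) ^ e + (y + w) ^ e + x ^ e + y ^ e + w ^ e = 0 := by
    intro x y w
    have h := hbil x y w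
    simp only [c] at h
    calc _ = ((x + y + w) ^ e + (x + y) ^ e + w ^ e) + ((x + w) ^ e + x ^ e + w ^ e + ((y + w) ^ e + y ^ e + w ^ e)) -
          w ^ e - w ^ e := by ring
      _ = 0 := by
        rw [h, CharTwo.add_self_eq_zero, zero_sub, CharTwo.sub_eq_add, CharTwo.neg_eq, CharTwo.add_self_eq_zero]
  rcases exists_of_quadratic he0 heq hquad with ⟨t, ht⟩ | ⟨i, d, hd, he⟩
  · exfalso
    refine hnc ?_
    rw [hyx xc yc]
    simp only [c, ht, add_pow_char_pow]
    rw [show π xc ^ 2 ^ t + π yc ^ 2 ^ t + π xc ^ 2 ^ t + π yc ^ 2 ^ t =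
      (π xc ^ 2 ^ t + π xc ^ 2 ^ t) + (π yc ^ 2 ^ t + π yc ^ 2 ^ t) by ring, CharTwo.add_self_eq_zero,
      CharTwo.add_self_eq_zero, add_zero, hι0, mul_one]
  -- the automorphism
  let φ : F ≃+* F := iterateFrobeniusEquiv F 2 d
  have hφ : ∀ a, φ a = a ^ 2 ^ d := fun a => iterateFrobeniusEquiv_def F 2 d a
  let ι2 : F → P := fun b => ι (b ^ 2 ^ i)
  have hι2 : ∀ a b, ι2 (a + b) = ι2 a * ι2 b := fun a b => by
    show ι ((a + b) ^ 2 ^ i) = _
    rw [add_pow_char_pow, hι]
  let β : F →+ F →+ F := AddMonoidHom.mul.comp φ.toRingHom.toAddMonoidHom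
  have hβ : ∀ a b, β a b = φ a * b := fun a b => rfl
  have hQ : ∀ x, x * x = ι2 (β (π x) (π x)) := fun x => by
    rw [hM x, hβ, hφ, ← pow_succ]
    show ι _ = ι _
    rw [← pow_mul, he, mul_comm]
  have hπι : ∀ a, π (ι a) = 0 := fun a => by
    show L (Additive.ofMul (QuotientGroup.mk (ι a) : P ⧸ Z)) = 0
    rw [(QuotientGroup.eq_one_iff _).mpr (Additive.toMul (L'.symm a) : Z).2]
    exact map_zero L
  obtain ⟨s, hs1, hs2⟩ := exists_section (fun v : F => CharTwo.add_self_eq_zero v) π hπ hπsurj ι2 hι2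
    CharTwo.add_self_eq_zero (fun a x => hcen _ x) (fun a => hπι _) β hQ
  have hι2inj : Function.Injective ι2 := fun a b h => by
    have := hιinj h
    exact (iterateFrobeniusEquiv F 2 i).injective (by rw [iterateFrobeniusEquiv_def, iterateFrobeniusEquiv_def]; exact this)
  -- injectivity of the norm map and the order of φ
  have hinjM : ∀ u : F, u ≠ 0 → u ^ e = 1 → u = 1 := by
    intro u hu hue
    obtain ⟨j, rfl⟩ := hωgen u hu
    have h1 : (k ^ j) z0 = (k ^ 0) z0 := by
      rw [← hιk, ← hιk, pow_zero, ← hue, ← heω, ← pow_mul, ← pow_mul, mul_comm]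
    rw [← hπk, heqpow z0 hz01 hz02 j 0 h1, hπk, pow_zero]
  have hωord : orderOf ω = Fintype.card F - 1 := by
    refine Nat.le_antisymm (orderOf_le_of_pow_eq_one (by omega) hωq) ?_
    have hsub : (Finset.univ.filter fun a : F => a ≠ 0) ⊆ (Finset.range (orderOf ω)).image (ω ^ ·) := by
      intro a ha
      obtain ⟨j, rfl⟩ := hωgen a (Finset.mem_filter.mp ha).2
      refine Finset.mem_image.mpr ⟨j % orderOf ω, Finset.mem_range.mpr (Nat.mod_lt _ (orderOf_pos_iff.mpr ?_)),
        pow_mod_orderOf ω j⟩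
      exact isOfFinOrder_iff_pow_eq_one.mpr ⟨_, by omega, hωq⟩
    have h := (Finset.card_le_card hsub).trans Finset.card_image_le
    rw [Finset.card_range, Finset.filter_ne', Finset.card_erase_of_mem (Finset.mem_univ _), Finset.card_univ] at h
    exact h
  have hφid : φ ≠ RingEquiv.refl F := by
    intro h
    refine hnc ?_
    rw [hyx xc yc]
    have hsimp : c (π xc) (π yc) = 0 := by
      have hd1 : ∀ a : F, a ^ 2 ^ d = a := fun a => by rw [← hφ, h]; rfl
      simp only [c, he, pow_mul _ (2 ^ i), pow_succ, hd1]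
      simp only [← mul_pow, CharTwo.add_mul_self, add_pow_char_pow]
      rw [show (π xc * π xc) ^ 2 ^ i + (π yc * π yc) ^ 2 ^ i + (π xc * π xc) ^ 2 ^ i + (π yc * π yc) ^ 2 ^ i =
        ((π xc * π xc) ^ 2 ^ i + (π xc * π xc) ^ 2 ^ i) + ((π yc * π yc) ^ 2 ^ i + (π yc * π yc) ^ 2 ^ i) by ring,
        CharTwo.add_self_eq_zero, CharTwo.add_self_eq_zero, add_zero]
    rw [hsimp, hι0, mul_one]
  have hφodd : Odd (orderOf φ) := by
    set g := Nat.gcd n d with hg
    obtain ⟨n', hn'⟩ := Nat.gcd_dvd_left n d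
    obtain ⟨d', hd'⟩ := Nat.gcd_dvd_right n d
    rw [← hg] at hn' hd'
    have hg0 : 0 < g := Nat.gcd_pos_of_pos_right n hd
    have hn'odd : Odd n' := by
      by_contra hne
      obtain ⟨m, hm⟩ := Nat.not_odd_iff_even.mp hne
      have hd'odd : Odd d' := by
        by_contra hde
        obtain ⟨m', hm'⟩ := Nat.not_odd_iff_even.mp hde
        have h2g : g * 2 ∣ g := by
          conv_rhs => rw [hg]
          exact Nat.dvd_gcd ⟨m, by rw [hn', hm]; ring⟩ ⟨m', by rw [hd', hm']; ring⟩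
        have := Nat.le_of_dvd hg0 h2g
        omega
      have hdvd1 : 2 ^ g + 1 ∣ 2 ^ d + 1 := by
        have := Odd.nat_add_dvd_pow_add_pow (2 ^ g) 1 hd'odd
        rwa [one_pow, ← pow_mul, ← hd'] at this
      have hdvd2 : 2 ^ g + 1 ∣ Fintype.card F - 1 := by
        rw [hqF]
        refine dvd_trans (Dvd.intro (2 ^ g - 1) ?_) (Nat.pow_sub_one_dvd_pow_sub_one 2 (show g * 2 ∣ n from ⟨m, by rw [hn', hm]; ring⟩))
        rw [pow_mul]
        simpa [mul_comm] using (Nat.sq_sub_sq (2 ^ g) 1).symm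
      obtain ⟨c1, hc1⟩ := hdvd1
      obtain ⟨c2, hc2⟩ := hdvd2
      have hu := hinjM (ω ^ c2) (pow_ne_zero _ hω0) (by
        rw [← pow_mul, he, hc1, show c2 * (2 ^ i * ((2 ^ g + 1) * c1)) = (2 ^ g + 1) * c2 * (2 ^ i * c1) by ring,
          ← hc2, pow_mul, hωq, one_pow])
      have hc2pos : 0 < c2 := by
        rcases Nat.eq_zero_or_pos c2 with h | h
        · rw [h, mul_zero] at hc2; omega
        · exact h
      have hle := orderOf_le_of_pow_eq_one hc2pos hu
      rw [hωord, hc2] at hle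
      have : 1 ≤ 2 ^ g := Nat.one_le_two_pow
      nlinarith
    refine Odd.of_dvd_nat hn'odd (orderOf_dvd_of_pow_eq_one (RingEquiv.ext fun a => ?_))
    have hit : ∀ j, (φ ^ j) a = a ^ 2 ^ (d * j) := by
      intro j
      induction j with
      | zero => simp
      | succ j ih =>
        rw [pow_succ', Nat.mul_succ, pow_add, pow_mul, ← ih, ← hφ]
        rfl
    rw [hit, show d * n' = n * d' by rw [hd', hn']; ring, pow_mul, ← hqF, FiniteField.pow_card_pow]
    rfl
  refine ⟨F, inferInstance, inferInstance, φ, hqF.trans hn.symm, hφid, hφodd, ?_⟩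
  -- the isomorphism
  have hs0 : s 0 = 1 := by
    have h := hs2 0 0
    rw [add_zero, hβ, map_zero, zero_mul, show ι2 0 = 1 by simp [ι2, hι0], mul_one] at h
    exact mul_eq_left.mp h
  let θ : F × F → P := fun ab => s ab.1 * ι2 ab.2
  have hθmul : ∀ a b, θ a * θ b = θ (a.1 + b.1, a.2 + b.2 + φ a.1 * b.1) := fun a b => by
    simp only [θ]
    rw [mul_assoc (s a.1), ← mul_assoc (ι2 a.2), ← hcen, ← mul_assoc, ← mul_assoc, hs2, hβ]
    try simp only [mul_assoc]
    show s _ * (ι2 _ * (ι2 _ * ι2 _)) = s _ * ι2 _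
    rw [← hι2, ← hι2]
    congr 2
    ring
  have hθinj : Function.Injective θ := by
    intro a b h
    have h1 : π (θ a) = π (θ b) := congrArg π h
    simp only [θ, hπ, hs1, ι2, hπι, add_zero] at h1
    simp only [θ, h1, mul_right_inj] at h
    exact Prod.ext h1 (hι2inj h)
  have hθbij : Function.Bijective θ := hθinj.bijective_of_nat_card_le (le_of_eq (by
    rw [hcard, hn, Nat.card_prod, Nat.card_eq_fintype_card, hqF, pow_two]))
  let e' := Equiv.ofBijective θ hθbij
  let N : GL (Fin 3) F → Prop := fun M => ∃ x y : F, (M : Matrix (Fin 3) (Fin 3) F) = !![1, 0, 0; x, 1, 0; y, φ x, 1]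
  let mk : F → F → GL (Fin 3) F := fun x y =>
    ⟨mat (φ : F →+* F) x y, mat (φ : F →+* F) x (y + φ x * x), by
      rw [mat_mul, CharTwo.add_self_eq_zero, show y + (y + φ x * x) + (φ : F →+* F) x * x = (y + y) + (φ x * x + φ x * x) by
        rw [RingEquiv.coe_toRingHom]; ring, CharTwo.add_self_eq_zero, CharTwo.add_self_eq_zero, add_zero]
      ext i j; fin_cases i <;> fin_cases j <;> simp [mat], by
      rw [mat_mul, CharTwo.add_self_eq_zero, show (y + φ x * x) + y + (φ : F →+* F) x * x = (y + y) + (φ x * x + φ x * x) by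
        rw [RingEquiv.coe_toRingHom]; ring, CharTwo.add_self_eq_zero, CharTwo.add_self_eq_zero, add_zero]
      ext i j; fin_cases i <;> fin_cases j <;> simp [mat]⟩
  have hmk : ∀ a b : F × F, mk (a + b).1 (a.2 + b.2 + φ a.1 * b.1) = mk a.1 a.2 * mk b.1 b.2 := fun a b =>
    Units.ext (mat_mul (φ : F →+* F) a.1 a.2 b.1 b.2).symm
  let Φ : P →* GL (Fin 3) F := MonoidHom.mk' (fun p => mk (e'.symm p).1 (e'.symm p).2) fun p q => by
    have h : e'.symm (p * q) = ((e'.symm p).1 + (e'.symm q).1, (e'.symm p).2 + (e'.symm q).2 + φ (e'.symm p).1 * (e'.symm q).1) := by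
      rw [Equiv.symm_apply_eq]
      show p * q = θ _
      rw [← hθmul]
      exact congrArg₂ (· * ·) (e'.apply_symm_apply p).symm (e'.apply_symm_apply q).symm
    rw [h]
    exact hmk (e'.symm p) (e'.symm q)
  have hΦinj : Function.Injective Φ := fun p q h => by
    have h' := congrArg (fun M : GL (Fin 3) F => (M : Matrix (Fin 3) (Fin 3) F)) h
    refine e'.symm.injective (Prod.ext ?_ ?_)
    · simpa [Φ, mk, mat] using congrFun (congrFun h' 1) 0
    · simpa [Φ, mk, mat] using congrFun (congrFun h' 2) 0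
  have hrange : Φ.range = Cfsg.suzukiTypeA F (φ : F →+* F) := by
    refine le_antisymm ?_ ((closure_le _).mpr ?_)
    · rintro _ ⟨p, rfl⟩
      exact subset_closure ⟨_, _, rfl⟩
    · rintro M ⟨x, y, hM'⟩
      exact ⟨θ (x, y), Units.ext (by
        show mat _ (e'.symm (θ (x, y))).1 (e'.symm (θ (x, y))).2 = _
        rw [show θ (x, y) = e' (x, y) from rfl, e'.symm_apply_apply, hM']; rfl)⟩
  exact ⟨(MonoidHom.ofInjective hΦinj).trans (MulEquiv.subgroupCongr hrange)⟩

end Cfsg.Agent.TypeA
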